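import Cfsg.Agent.H985.OC.Defs
import Cfsg.Agent.H993.OC.Eng
import Cfsg.Agent.H623.OC.OddTool
import Cfsg.Agent.H328.Gow.Inner

/-!
# S4891, own characteristic, classical groups, norm two: the passage to the simple group (helper985)

`hc_two` : `S = N / scalars` (`D : SemiQ F N S`), `Ψ = F.hc c 1` of norm two on `N`, not containing the trivial character,
`∑_M Ψ = |M|` for some subgroup `M ≤ N`: `∃ θ, Wt p S A θ`.
-/

set_option autoImplicit false

open scoped ComplexConjugate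
open Cfsg

namespace Cfsg.Agent.H985.OC

open Cfsg.Agent.H477.HC Cfsg.Agent.H53.HC Cfsg.Agent.Characters Cfsg.Agent.H576.Ext Module
  Cfsg.Agent.OddOrderCharacters.Clifford
open Cfsg.Agent.H145.BR (PRat)
open Cfsg.Agent.H993.OC (OCRow Wt hc_mem semi_iter)
open Cfsg.Agent.H328.Gow (sum_comp_inner)
open Cfsg.Agent.H464.ExtR3 (autG mem_autG)

universe u v w

/-- descent of a character -/
theorem exists_char_of_surjective {N : Type*} [Group N] [Finite N] {S : Type*} [Group S] (q : N →* S)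
    (hq : Function.Surjective q) {χ : N → ℂ} (hχ : IsCharacter N χ) (hker : ∀ n, q n = 1 → χ n = χ 1) :
    ∃ Ψ : S → ℂ, IsCharacter S Ψ ∧ ∀ n, Ψ (q n) = χ n := by
  obtain ⟨d, ρ, rfl⟩ := hχ
  have hker' : ∀ z ∈ q.ker, ρ z = 1 := by
    intro z hz
    have h1 : ρ z = LinearMap.id := by
      rw [← Cfsg.Agent.Characters.Values.character_eq_finrank_iff, hker z hz]
      simp
    exact h1
  let e := QuotientGroup.quotientKerEquivOfSurjective q hq
  let ρ₀ : (N ⧸ q.ker) →* Module.End ℂ (Fin d → ℂ) := QuotientGroup.lift q.ker ρ hker'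
  let ρ' : Representation ℂ S (Fin d → ℂ) := ρ₀.comp e.symm.toMonoidHom
  refine ⟨ρ'.character, ⟨d, ρ', rfl⟩, fun n => ?_⟩
  change LinearMap.trace ℂ _ (ρ₀ (e.symm (q n))) = LinearMap.trace ℂ _ (ρ n)
  have h1 : e (n : N ⧸ q.ker) = q n := rfl
  rw [← h1, e.symm_apply_apply]
  rfl

theorem PRat.const_one {p : ℕ} (hp : p.Prime) {G : Type*} : PRat p (fun _ : G => (1 : ℂ)) :=
  H846.RatB.pRatC_one hp

section

variable {K : Type u} [Field K] {V : Type v} [AddCommGroup V] [Module K V] {F : CForm K V}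
variable {N : Subgroup F.iso} {S : Type w} [Group S]

/-- scalars act trivially -/
theorem hc_ker {p : ℕ} [FiniteDimensional K V] {k : ℕ} [Fintype (F.Om k)] {c : GL (Fin k) K → ℂ}
    (hc : CDat p K k c) {g : F.iso} {a : K} (ha : ∀ v, (g : V ≃ₗ[K] V) v = a • v) :
    F.hc c (fun _ _ => 1) g = F.hc c (fun _ _ => 1) 1 := by
  by_cases h0 : a = 0
  · have : g = 1 := by
      apply Subtype.ext
      apply LinearEquiv.ext
      intro v
      have h2 : ∀ v : V, v = 0 := fun v => by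
        have h3 := ha v
        rw [h0, zero_smul] at h3
        exact (LinearEquiv.map_eq_zero_iff _).1 h3
      rw [h2 v, map_zero]
      exact (h2 _).symm
    rw [this]
  · exact F.hc_scalar (Core.isIrr_isClassFunction hc.irr) (fun _ _ => 1) (z := g) (a := Units.mk0 a h0) ha
      (hc.scal _) (fun _ _ => rfl)

/-- **the passage to `S`** -/
theorem hc_two {p : ℕ} [Fact p.Prime] [Finite K] [FiniteDimensional K V] [Finite V] {k : ℕ} [Fintype (F.Om k)]
    (D : SemiQ F N S) [Finite S] {c : GL (Fin k) K → ℂ} (hc : CDat p K k c) (hOm : ¬ p ∣ Nat.card (F.Om k))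
    (h2 : ∀ [Fintype N], classInner (fun n : N => F.hc c (fun _ _ => 1) n) (fun n : N => F.hc c (fun _ _ => 1) n) = 2)
    (h1 : ∀ [Fintype N], classInner (fun n : N => F.hc c (fun _ _ => 1) n) 1 = 0) {M : Subgroup F.iso} (hMN : M ≤ N)
    (hsum : ∀ [Fintype M], ∑ g : M, F.hc c (fun _ _ => 1) (g : F.iso) = (Nat.card M : ℂ))
    {A : Subgroup (MulAut S)} (hA : IsPGroup p A) (hAut : A ≤ autG D) : ∃ θ, Wt p S A θ := by
  classical
  have hp : p.Prime := Fact.out
  have hG : Finite (V ≃ₗ[K] V) := Finite.of_injective (fun e : V ≃ₗ[K] V => (e : V → V)) DFunLike.coe_injective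
  let _ : Fintype N := Fintype.ofFinite N
  let _ : Fintype S := Fintype.ofFinite S
  let _ : Fintype M := Fintype.ofFinite M
  have hcf := Core.isIrr_isClassFunction hc.irr
  have hker : ∀ n : N, D.q n = 1 → F.hc c (fun _ _ => 1) n = F.hc c (fun _ _ => 1) ((1 : N) : F.iso) := by
    intro n hn
    obtain ⟨a, ha⟩ := (D.ker n).1 hn
    exact hc_ker hc ha
  obtain ⟨Ψ, hΨ, hΨq⟩ := exists_char_of_surjective D.q D.surj
    (isCharacter_hc' F N (Core.isIrr_isCharacter hc.irr)) hker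
  obtain ⟨d, hd, hpd⟩ := hc.deg
  have hdeg : Ψ 1 = ((Nat.card (F.Om k) * d : ℕ) : ℂ) := by
    rw [← map_one D.q, hΨq]
    change F.hc c (fun _ _ => 1) 1 = _
    rw [F.hc_one hcf (fun _ _ => 1) (d := 1) (fun _ _ => rfl), mul_one, hd]
    push_cast
    rfl
  -- inner products
  have hin : ∀ a b : S → ℂ, classInner a b = classInner (fun n : N => a (D.q n)) (fun n : N => b (D.q n)) := by
    intro a b
    have h3 := sum_comp_inner D.q D.surj a b
    rw [classInner_apply (fun n : N => a (D.q n)), h3, inv_mul_cancel_left₀ card_ne_zero']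
  have hΨΨ : classInner Ψ Ψ = 2 := by
    rw [hin]
    simp only [hΨq]
    exact h2
  have hΨ1 : classInner Ψ 1 = 0 := by
    rw [hin]
    simp only [hΨq]
    exact h1
  -- rationality
  have hrat : PRat p Ψ := by
    obtain ⟨n, hn, hn'⟩ := hc.rat
    refine ⟨n, hn, fun x => ?_⟩
    obtain ⟨y, rfl⟩ := D.surj x
    rw [hΨq]
    exact hc_mem hcf _ hn' _
  -- invariance
  have hinv : ∀ α ∈ A, ∀ x, Ψ (α x) = Ψ x := by
    intro α hα
    obtain ⟨s, hs⟩ := mem_autG.1 (hAut hα)
    obtain ⟨j, hj⟩ := hA ⟨α, hα⟩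
    have hj' : α ^ p ^ j = 1 := congrArg Subtype.val hj
    obtain ⟨m, hm, hmc⟩ := hc.fix s.τ
    have h2 : α ^ m ∈ H576.Ext.stab Ψ := by
      intro x
      obtain ⟨y, rfl⟩ := D.surj x
      obtain ⟨y', h3, h4⟩ := semi_iter D hs m c hcf y
      rw [← h3, hΨq, hΨq, h4, hmc]
    have h3 : α ^ p ^ j ∈ H576.Ext.stab Ψ := by
      rw [hj']
      exact one_mem _
    have hco : IsCoprime (m : ℤ) ((p ^ j : ℕ) : ℤ) := by
      rw [Nat.isCoprime_iff_coprime]
      exact (Nat.Coprime.pow_right j ((Nat.Prime.coprime_iff_not_dvd hp).2 hm).symm)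
    obtain ⟨a, b, hab⟩ := hco
    have h4 : α ∈ H576.Ext.stab Ψ := by
      have h5 : α = (α ^ m) ^ a * (α ^ p ^ j) ^ b := by
        rw [← zpow_natCast, ← zpow_natCast, ← zpow_mul, ← zpow_mul, ← zpow_add, mul_comm (m : ℤ), mul_comm _ b, hab,
          zpow_one]
      rw [h5]
      exact mul_mem (zpow_mem h2 a) (zpow_mem h3 b)
    exact h4
  -- the permutation character
  let M' : Subgroup S := (M.subgroupOf N).map D.q
  let _ : Fintype M' := Fintype.ofFinite M'
  have hπ : IsCharacter S (indFun M' (fun _ => (1 : ℂ))) :=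
    CharactersDeep.IndFun.isCharacter_indFun M' Core.isCharacter_one
  have hπr : PRat p (indFun M' (fun _ => (1 : ℂ))) := H846.RatB.PRatC.indFun M' (H846.RatB.pRatC_one hp)
  have hMs : ∑ x : M', Ψ x = (Nat.card M' : ℂ) := by
    let f : M →* M' :=
      { toFun := fun m => ⟨D.q ⟨m, hMN m.2⟩, ⟨⟨m, hMN m.2⟩, m.2, rfl⟩⟩
        map_one' := Subtype.ext (map_one D.q)
        map_mul' := fun x y => Subtype.ext (map_mul D.q ⟨x, hMN x.2⟩ ⟨y, hMN y.2⟩) }
    have hf : Function.Surjective f := by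
      rintro ⟨_, ⟨n, hn, rfl⟩⟩
      exact ⟨⟨n, hn⟩, rfl⟩
    have h3 := sum_comp_inner f hf (fun x => Ψ x) (fun _ => 1)
    simp only [map_one, mul_one] at h3
    have h4 : ∑ l : M, Ψ (f l) = (Nat.card M : ℂ) := by
      rw [← hsum]
      exact Finset.sum_congr rfl fun l _ => hΨq ⟨l, hMN l.2⟩
    rw [h4, classInner_apply] at h3
    simp only [map_one, mul_one] at h3
    have h5 : (Nat.card M : ℂ) ≠ 0 := card_ne_zero'
    have h6 : (Nat.card M' : ℂ) ≠ 0 := card_ne_zero'
    have h7 : (1 : ℂ) = (Nat.card M' : ℂ)⁻¹ * ∑ x : M', Ψ x := mul_left_cancel₀ h5 (by rw [mul_one]; exact h3)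
    field_simp at h7
    exact h7.symm
  have hinner : classInner Ψ (indFun M' (fun _ => (1 : ℂ))) = 1 := by
    rw [← Core.classInner_conj_symm, CharactersDeep.IndFun.classInner_indFun M' (fun _ => (1 : ℂ)) Ψ
      (Core.isCharacter_isClassFunction hΨ), Core.classInner_conj_symm, classInner_apply]
    simp only [map_one, mul_one]
    have h6 : (Nat.card M' : ℂ) ≠ 0 := card_ne_zero'
    rw [hMs, inv_mul_cancel₀ h6]
  refine H623.OddTool.odd_tool hA hΨ hΨΨ hΨ1 hdeg (fun h => ?_) hrat hinv hπ hπr hinner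
  rcases (Nat.Prime.dvd_mul hp).1 h with h | h
  · exact hOm h
  · exact hpd h

end

end Cfsg.Agent.H985.OC
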